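import Cfsg.Agent.Lib.PermWide.Search
import Cfsg.Agent.Lib.Mathieu.Rigid

/-!
A bound on the outer automorphism group of a permutation group with a checked chain: a pair of
generators `X, T`, an element `Y` normalising `⟨X⟩` with `T * Y = Y ^ j * T`, and relations that
exclude all but the allowed images of the pair.
-/

set_option autoImplicit false

namespace Cfsg.Agent.PermWide

variable {n : ℕ}

theorem appW_append : ∀ (w₁ w₂ : List ℕ) (i : ℕ), appW (w₂ ++ w₁) i = appW w₁ (appW w₂ i)
  | _, [], _ => rfl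
  | w₁, t :: w₂, i => appW_append w₁ w₂ (app t i)

theorem RepW.append {σ τ : Equiv.Perm (Fin n)} {w₁ w₂ : List ℕ} (h₁ : RepW σ w₁) (h₂ : RepW τ w₂) :
    RepW (σ * τ) (w₂ ++ w₁) := fun a => by
  rw [Equiv.Perm.mul_apply, h₁, h₂, appW_append]

theorem Rep.toW {σ : Equiv.Perm (Fin n)} {l : ℕ} (h : Rep σ l) : RepW σ [l] := fun a => h a

/-- The word of a power. -/
def powW (w : List ℕ) : ℕ → List ℕ
  | 0 => []
  | k + 1 => powW w k ++ w

theorem RepW.pow {σ : Equiv.Perm (Fin n)} {w : List ℕ} (h : RepW σ w) :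
    ∀ k, RepW (σ ^ k) (powW w k)
  | 0 => by rw [pow_zero]; exact repW_nil
  | k + 1 => by rw [pow_succ']; exact h.append (h.pow k)

/-- The word of a product of powers of two words. -/
def sylW (x t : List ℕ) : List (ℕ × ℕ) → List ℕ
  | [] => []
  | (a, b) :: r => sylW x t r ++ (powW t b ++ powW x a)

theorem repW_sylW {μ ν : Equiv.Perm (Fin n)} {x t : List ℕ} (hx : RepW μ x) (ht : RepW ν t) :
    ∀ r, RepW (Mathieu.sylProd μ ν r) (sylW x t r)
  | [] => repW_nil
  | (a, b) :: r => by
    have := ((hx.pow a).append (ht.pow b)).append (repW_sylW hx ht r)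
    simpa only [sylW, Mathieu.sylProd, List.map_cons, List.prod_cons] using this

/-- The word fixes every index below `n`. -/
def idW (n : ℕ) (w : List ℕ) : Bool := (List.range n).all fun i => appW w i == i

theorem RepW.idW_iff {σ : Equiv.Perm (Fin n)} {w : List ℕ} (h : RepW σ w) :
    idW n w = true ↔ σ = 1 := by
  simp only [idW, List.all_eq_true, List.mem_range, beq_iff_eq]
  constructor
  · exact fun hw => Equiv.ext fun a => Fin.ext ((h a).trans (hw _ a.isLt))
  · intro hσ i hi
    subst hσ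
    exact (h ⟨i, hi⟩).symm

/-- The relation holds for `(x, t)` and fails for `(x', t')`. -/
def separatesW (n : ℕ) (x t x' t' : List ℕ) (rel : List (ℕ × ℕ) × ℕ) : Bool :=
  idW n (powW (sylW x t rel.1) rel.2) && !idW n (powW (sylW x' t' rel.1) rel.2)

theorem not_separatesW {M : Type*} [Monoid M] {ι : M →* Equiv.Perm (Fin n)}
    (hι : Function.Injective ι) (f : M →* M) {a b : M} {x t x' t' : List ℕ}
    (hx : RepW (ι a) x) (ht : RepW (ι b) t) (hx' : RepW (ι (f a)) x') (ht' : RepW (ι (f b)) t')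
    (rel : List (ℕ × ℕ) × ℕ) : separatesW n x t x' t' rel = false := by
  rw [Bool.eq_false_iff]
  intro h
  simp only [separatesW, Bool.and_eq_true, Bool.not_eq_eq_eq_not, Bool.not_true] at h
  have h1 := ((repW_sylW hx ht rel.1).pow rel.2).idW_iff.1 h.1
  rw [← Mathieu.map_sylProd, ← map_pow] at h1
  have h2 : Mathieu.sylProd a b rel.1 ^ rel.2 = 1 := hι (by rw [h1, map_one])
  have h3 : (Mathieu.sylProd (ι (f a)) (ι (f b)) rel.1) ^ rel.2 = 1 := by
    rw [← Mathieu.map_sylProd, ← Mathieu.map_sylProd, ← map_pow, ← map_pow, h2, map_one, map_one]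
  rw [((repW_sylW hx' ht' rel.1).pow rel.2).idW_iff.2 h3] at h
  exact absurd h.2 (by simp)

/-- Equal images below `n`. -/
def sameW (n : ℕ) (w w' : List ℕ) : Bool := (List.range n).all fun i => appW w i == appW w' i

theorem RepW.of_sameW {σ : Equiv.Perm (Fin n)} {w w' : List ℕ} (h : RepW σ w)
    (he : sameW n w w' = true) : RepW σ w' := by
  simp only [sameW, List.all_eq_true, List.mem_range, beq_iff_eq] at he
  exact fun a => (h a).trans (he _ a.isLt)

/-- Every solution is allowed or violates a relation. -/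
def imgOK (n : ℕ) (x t : ℕ) (R : List ℕ) (allowed : List (ℕ × List ℕ))
    (rels : List (List (ℕ × ℕ) × ℕ)) (sols : List (List ℕ)) : Bool :=
  sols.all fun g => R.all fun a =>
    (allowed.any fun q => q.1 == a && sameW n g q.2) ||
      rels.any fun rel => separatesW n [x] [t] (powW [x] a) g rel

/-- Every outer class is determined by one of the allowed images. -/
theorem outer_finite_card_le {G : Subgroup (Equiv.Perm (Fin n))} {L : List Level} (S : Chain G L)
    {p r s j : ℕ} {R : List ℕ} {x y t yj : ℕ} {allowed : List (ℕ × List ℕ)}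
    {rels : List (List (ℕ × ℕ) × ℕ)} (hp : p.Prime) (hex : Mathieu.expOK p r s R = true)
    (hp2 : ¬ p ^ 2 ∣ Nat.card G) {X Y T : G} (hX : Rep (X : Equiv.Perm (Fin n)) x)
    (hY : Rep (Y : Equiv.Perm (Fin n)) y) (hT : Rep (T : Equiv.Perm (Fin n)) t)
    (hord : orderOf X = p) (hC : ∀ g : G, g * X = X * g → ∃ k, k < p ∧ g = X ^ k)
    (hact : Y * X * Y⁻¹ = X ^ r) (hty : T * Y = Y ^ j * T)
    (hyj : Rep ((Y : Equiv.Perm (Fin n)) ^ j) yj)
    (hdense : Subgroup.closure ({X, T} : Set G) = ⊤)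
    (hi : imgOK n x t R allowed rels (searchW n y yj L [] []) = true) :
    Finite (Cfsg.Out G) ∧ Nat.card (Cfsg.Out G) ≤ allowed.length := by
  have key : ∀ φ : MulAut G, ∃ i : Fin allowed.length, ∃ ψ : MulAut G,
      (ψ : Cfsg.Out G) = (φ : Cfsg.Out G) ∧
      RepW ((ψ X : G) : Equiv.Perm (Fin n)) (powW [x] allowed[i.val].1) ∧
      RepW ((ψ T : G) : Equiv.Perm (Fin n)) allowed[i.val].2 := by
    intro φ
    obtain ⟨ψ, hψ, a, ha, hψx, hψy⟩ := Mathieu.exists_normalised hp hex hord hp2 hC hact φ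
    have h1 := congrArg ψ hty
    rw [map_mul, map_mul, map_pow, hψy] at h1
    obtain ⟨w, hw, hwr⟩ := S.exists_solution hY hyj (ψ T).2 (congrArg Subtype.val h1)
    simp only [imgOK, List.all_eq_true, Bool.or_eq_true, List.any_eq_true, Bool.and_eq_true,
      beq_iff_eq] at hi
    have hψX : RepW ((ψ X : G) : Equiv.Perm (Fin n)) (powW [x] a) := by
      rw [hψx]; exact hX.toW.pow a
    rcases hi w hw a ha with ⟨q, hq, hqa, hsame⟩ | ⟨rel, -, hsep⟩
    · obtain ⟨i, hi', hiq⟩ := List.getElem_of_mem hq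
      refine ⟨⟨i, hi'⟩, ψ, hψ, ?_⟩
      rw [hiq, hqa]
      exact ⟨hψX, hwr.of_sameW hsame⟩
    · rw [not_separatesW (ι := G.subtype) G.subtype_injective ψ.toMonoidHom (a := X) (b := T)
        hX.toW hT.toW hψX hwr rel] at hsep
      exact absurd hsep Bool.false_ne_true
  choose idxOf autOf hclass hXr hTr using key
  have huniq : ∀ φ φ' : MulAut G, idxOf φ = idxOf φ' →
      (φ : Cfsg.Out G) = (φ' : Cfsg.Out G) := by
    intro φ φ' h
    rw [← hclass φ, ← hclass φ']
    congr 1
    have hXe := hXr φ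
    have hTe := hTr φ
    rw [h] at hXe hTe
    have heq : (autOf φ).toMonoidHom = (autOf φ').toMonoidHom :=
      MonoidHom.eq_of_eqOn_dense hdense fun z hz => by
        rcases hz with rfl | rfl
        · exact Subtype.ext (hXe.unique (hXr φ'))
        · exact Subtype.ext (hTe.unique (hTr φ'))
    exact MulEquiv.ext fun z => DFunLike.congr_fun heq z
  let f : Cfsg.Out G → Fin allowed.length := fun c => idxOf c.out
  have hf : Function.Injective f := fun c c' h => by
    simpa using huniq _ _ h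
  have : Finite (Cfsg.Out G) := Finite.of_injective f hf
  exact ⟨this, (Nat.card_le_card_of_injective f hf).trans_eq (Nat.card_fin _)⟩

/-- Nothing in a transitive group acts as `δ` by conjugation, for `δ` outside it. -/
theorem eq_of_conj_eq {α : Type*} {G : Subgroup (Equiv.Perm α)} {δ : Equiv.Perm α} {b : α}
    (htrans : ∀ a, ∃ σ ∈ G, σ b = a) (hfix : ∀ a, a ≠ b → ∃ σ ∈ G, σ b = b ∧ σ a ≠ a)
    {g : Equiv.Perm α} (hconj : ∀ σ ∈ G, g * σ * g⁻¹ = δ * σ * δ⁻¹) : g = δ := by
  have hc : ∀ σ ∈ G, (g⁻¹ * δ) * σ = σ * (g⁻¹ * δ) := fun σ hσ => by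
    have h := hconj σ hσ
    calc (g⁻¹ * δ) * σ = g⁻¹ * (δ * σ * δ⁻¹) * δ := by group
      _ = σ * (g⁻¹ * δ) := by rw [← h]; group
  set π := g⁻¹ * δ with hπ
  have hb : π b = b := by
    by_contra hne
    obtain ⟨σ, hσ, hσb, hσa⟩ := hfix _ hne
    have := congrArg (fun p : Equiv.Perm α => p b) (hc σ hσ)
    simp only [Equiv.Perm.mul_apply, hσb] at this
    exact hσa this.symm
  have : π = 1 := Equiv.ext fun a => by
    obtain ⟨σ, hσ, rfl⟩ := htrans a
    have := congrArg (fun p : Equiv.Perm α => p b) (hc σ hσ)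
    simp only [Equiv.Perm.mul_apply, hb] at this
    exact this
  rwa [hπ, inv_mul_eq_one] at this

end Cfsg.Agent.PermWide
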