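import Cfsg.Agent.Lib.PermWide.Basic

/-!
Searches over a chain of representatives: all `g` with `g * u = v * g`, the exact centraliser of an
element, and a decision that a permutation is no product of representatives.
-/

set_option autoImplicit false

namespace Cfsg.Agent.PermWide

variable {n : ℕ}

/-- The image of `i` under a word, newest factor first. -/
def appW : List ℕ → ℕ → ℕ
  | [], i => i
  | t :: acc, i => appW acc (app t i)

/-- The word represents `σ`. -/
def RepW (σ : Equiv.Perm (Fin n)) (w : List ℕ) : Prop := ∀ a : Fin n, (σ a).val = appW w a.val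

theorem repW_nil : RepW (1 : Equiv.Perm (Fin n)) [] := fun _ => rfl

theorem RepW.snoc {A τ : Equiv.Perm (Fin n)} {acc : List ℕ} {t : ℕ} (hA : RepW A acc)
    (hτ : Rep τ t) : RepW (A * τ) (t :: acc) := fun a => by
  rw [Equiv.Perm.mul_apply, hA, hτ]; rfl

theorem RepW.unique {σ τ : Equiv.Perm (Fin n)} {w : List ℕ} (h : RepW σ w) (h' : RepW τ w) :
    σ = τ :=
  Equiv.ext fun a => Fin.ext ((h a).trans (h' a).symm)

theorem RepW.eq_rep {σ τ : Equiv.Perm (Fin n)} {w : List ℕ} {l : ℕ} (h : RepW σ w) (h' : Rep τ l)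
    (heq : ((List.range n).all fun i => appW w i == app l i) = true) : σ = τ := by
  simp only [List.all_eq_true, List.mem_range, beq_iff_eq] at heq
  exact Equiv.ext fun a => Fin.ext ((h a).trans ((heq _ a.isLt).trans (h' a).symm))

/-- An element of a group from a word in its listed members. -/
theorem exists_repW {G : Subgroup (Equiv.Perm (Fin n))} :
    ∀ {w : List ℕ}, (∀ t ∈ w, ∃ σ ∈ G, Rep σ t) → ∃ σ ∈ G, RepW σ w
  | [], _ => ⟨1, G.one_mem, repW_nil⟩
  | t :: acc, h => by
    obtain ⟨σ, hσ, hr⟩ := exists_repW (G := G) (w := acc) fun s hs => h s (List.mem_cons_of_mem _ hs)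
    obtain ⟨τ, hτ, ht⟩ := h t List.mem_cons_self
    exact ⟨σ * τ, G.mul_mem hσ hτ, hr.snoc ht⟩

/-- The word, with its new base point `b`, does not contradict `g * u = v * g`. -/
def pruneOK (u v : ℕ) (acc : List ℕ) (b : ℕ) (fixed : List ℕ) : Bool :=
  (!(b :: fixed).contains (app u b) || appW acc (app u b) == app v (appW acc b)) &&
    fixed.all fun x => app u x != b || appW acc b == app v (appW acc x)

/-- The word satisfies `g * u = v * g`. -/
def leafOK (n u v : ℕ) (acc : List ℕ) : Bool :=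
  (List.range n).all fun i => appW acc (app u i) == app v (appW acc i)

/-- All words for `g` with `g * u = v * g`. -/
def searchW (n u v : ℕ) : List Level → List ℕ → List ℕ → List (List ℕ)
  | [], _, acc => if leafOK n u v acc then [acc] else []
  | p :: rest, fixed, acc => p.2.flatMap fun t =>
      if pruneOK u v (t :: acc) p.1 fixed then searchW n u v rest (p.1 :: fixed) (t :: acc) else []

theorem pruneOK_of_comm {μ ν A τ ρ : Equiv.Perm (Fin n)} {u v b t : ℕ} {acc fixed : List ℕ}
    (hu : Rep μ u) (hv : Rep ν v) (hA : RepW A acc) (hτ : Rep τ t) (hb : b < n)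
    (hfx : ∀ i ∈ fixed, i < n) (hρ : ∀ a : Fin n, a.val ∈ b :: fixed → ρ a = a)
    (h : A * (τ * ρ) * μ = ν * (A * (τ * ρ))) : pruneOK u v (t :: acc) b fixed = true := by
  have hW := hA.snoc hτ
  have heval : ∀ i, ∀ hi : i < n, i ∈ b :: fixed →
      ((A * (τ * ρ)) ⟨i, hi⟩).val = appW (t :: acc) i := fun i hi hmem => by
    rw [← mul_assoc, Equiv.Perm.mul_apply, hρ _ hmem, hW]
  have hrel : ∀ i ∈ b :: fixed, app u i ∈ b :: fixed →
      appW (t :: acc) (app u i) = app v (appW (t :: acc) i) := by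
    intro i hi hc
    have hin : i < n := by
      rcases List.mem_cons.1 hi with rfl | hi
      exacts [hb, hfx i hi]
    have h1 := congrArg (fun g : Equiv.Perm (Fin n) => (g ⟨i, hin⟩).val) h
    simp only [Equiv.Perm.mul_apply] at h1
    rw [hv] at h1
    have e1 : μ ⟨i, hin⟩ = ⟨app u i, hu.app_lt hin⟩ := Fin.ext (hu _)
    rw [e1] at h1
    have h2 := heval _ (hu.app_lt hin) hc
    have h3 := heval i hin hi
    simp only [Equiv.Perm.mul_apply] at h2 h3
    rwa [h2, h3] at h1
  simp only [pruneOK, Bool.and_eq_true, List.all_eq_true, Bool.or_eq_true, Bool.not_eq_eq_eq_not,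
    Bool.not_true, beq_iff_eq, bne_iff_ne]
  refine ⟨?_, fun i hi => ?_⟩
  · by_cases hc : (b :: fixed).contains (app u b)
    · exact .inr (hrel b List.mem_cons_self (List.contains_iff_mem.1 hc))
    · exact .inl (by simpa using hc)
  · by_cases hc : app u i = b
    · have := hrel i (List.mem_cons_of_mem _ hi) (by rw [hc]; exact List.mem_cons_self)
      rw [hc] at this
      exact .inr this
    · exact .inl hc

theorem mem_searchW {μ ν : Equiv.Perm (Fin n)} {u v : ℕ} (hu : Rep μ u) (hv : Rep ν v) :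
    ∀ (L : List Level) (fixed : List ℕ) (acc : List ℕ) (A ρ : Equiv.Perm (Fin n)),
      (∀ i ∈ fixed, i < n) → levelsOK n fixed L = true → RepW A acc → InProd L ρ →
      A * ρ * μ = ν * (A * ρ) → ∃ w ∈ searchW n u v L fixed acc, RepW (A * ρ) w := by
  intro L
  induction L with
  | nil =>
    intro fixed acc A ρ _ _ hA hρ h
    rw [show ρ = 1 from hρ, mul_one] at h ⊢
    refine ⟨acc, ?_, hA⟩
    have hleaf : leafOK n u v acc = true := by
      simp only [leafOK, List.all_eq_true, List.mem_range, beq_iff_eq]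
      intro i hi
      have h1 := congrArg (fun g : Equiv.Perm (Fin n) => (g ⟨i, hi⟩).val) h
      simp only [Equiv.Perm.mul_apply] at h1
      rwa [hA, hu, hv, hA] at h1
    simp [searchW, hleaf]
  | cons p rest ih =>
    obtain ⟨b, ts⟩ := p
    intro fixed acc A ρ hfx hok hA hρ h
    obtain ⟨t, ht, τ, hτ, ρ', hρ', rfl⟩ := hρ
    have hok' := hok
    simp only [levelsOK, Bool.and_eq_true, decide_eq_true_eq] at hok'
    obtain ⟨⟨⟨hb, -⟩, -⟩, hrest⟩ := hok'
    have hfx' : ∀ i ∈ b :: fixed, i < n := List.forall_mem_cons.2 ⟨hb, hfx⟩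
    obtain ⟨w, hw, hr⟩ := ih (b :: fixed) (t :: acc) (A * τ) ρ' hfx' hrest (hA.snoc hτ) hρ'
      (by simpa only [mul_assoc] using h)
    refine ⟨w, ?_, by simpa only [mul_assoc] using hr⟩
    rw [searchW, List.mem_flatMap]
    exact ⟨t, ht, by rw [if_pos (pruneOK_of_comm hu hv hA hτ hb hfx (hρ'.fix hrest) h)]; exact hw⟩

/-- The solutions of `g * u = v * g` in a group with a checked chain. -/
theorem Chain.exists_solution {G : Subgroup (Equiv.Perm (Fin n))} {L : List Level} (S : Chain G L)
    {g μ ν : Equiv.Perm (Fin n)} {u v : ℕ} (hu : Rep μ u) (hv : Rep ν v) (hg : g ∈ G)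
    (h : g * μ = ν * g) : ∃ w ∈ searchW n u v L [] [], RepW g w := by
  obtain ⟨w, hw, hr⟩ := mem_searchW hu hv L [] [] 1 g (by simp) S.ok repW_nil (S.all g hg)
    (by simpa using h)
  exact ⟨w, hw, by simpa using hr⟩

/-! ### Exact centralisers -/

/-- Each image of a base point is met by the centraliser chain or leaves no solution. -/
def exactOK (n z : ℕ) : List Level → List Level → List ℕ → Bool
  | [], [], _ => true
  | (b, ts) :: rest, (b', cs) :: rest', fixed =>
    b == b' &&
      ts.all (fun t => cs.any (fun c => app c b == app t b) || !pruneOK z z [t] b fixed ||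
        (searchW n z z rest (b :: fixed) [t]).isEmpty) &&
      exactOK n z rest rest' (b :: fixed)
  | _, _, _ => false

theorem exactOK_spec {G : Subgroup (Equiv.Perm (Fin n))} {ζ : Equiv.Perm (Fin n)} {z : ℕ}
    (hz : Rep ζ z) :
    ∀ (L LC : List Level) (fixed : List ℕ), (∀ i ∈ fixed, i < n) → levelsOK n fixed L = true →
      levelsOK n fixed LC = true →
      (∀ c ∈ allReps LC, ∃ γ ∈ G, Rep γ c ∧ γ * ζ = ζ * γ) →
      (∀ σ ∈ G, (∀ a : Fin n, a.val ∈ fixed → σ a = a) → InProd L σ) →
      exactOK n z L LC fixed = true →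
      ∀ σ ∈ G, (∀ a : Fin n, a.val ∈ fixed → σ a = a) → σ * ζ = ζ * σ → InProd LC σ
  | [], [], fixed, _, _, _, _, hK, _, σ, hσ, hfix, _ => hK σ hσ hfix
  | [], _ :: _, _, _, _, _, _, _, h, _, _, _, _ => by simp [exactOK] at h
  | _ :: _, [], _, _, _, _, _, _, h, _, _, _, _ => by simp [exactOK] at h
  | (b, ts) :: rest, (b', cs) :: rest', fixed, hfx, hok, hokC, hC, hK, h, σ, hσ, hfix, hcomm => by
    simp only [exactOK, Bool.and_eq_true, beq_iff_eq, List.all_eq_true] at h
    obtain ⟨⟨rfl, htest⟩, hrec⟩ := h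
    obtain ⟨t, ht, τ, hτ, ρ, hρ, hσeq⟩ := hK σ hσ hfix
    simp only [levelsOK, Bool.and_eq_true, decide_eq_true_eq, List.all_eq_true, beq_iff_eq] at hok hokC
    obtain ⟨⟨⟨hb, -⟩, hlev⟩, hrest⟩ := hok
    obtain ⟨⟨-, hlevC⟩, hrestC⟩ := hokC
    have hfx' : ∀ i ∈ b :: fixed, i < n := List.forall_mem_cons.2 ⟨hb, hfx⟩
    have hρfix := hρ.fix hrest
    have ht' := htest t ht
    simp only [Bool.or_eq_true, List.any_eq_true, beq_iff_eq, Bool.not_eq_eq_eq_not, Bool.not_true,
      List.isEmpty_iff] at ht'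
    rcases ht' with (⟨c, hc, hcb⟩ | hpr) | hempty
    · obtain ⟨γ, hγG, hγ, hγz⟩ := hC c (List.mem_flatMap.2 ⟨(b, cs), List.mem_cons_self, hc⟩)
      have hγfix : ∀ a : Fin n, a.val ∈ fixed → γ a = a := fun a ha =>
        Fin.ext ((hγ a).trans ((hlevC c hc).1 _ ha))
      have hσb : σ ⟨b, hb⟩ = γ ⟨b, hb⟩ := by
        rw [hσeq, Equiv.Perm.mul_apply, hρfix ⟨b, hb⟩ List.mem_cons_self]
        exact Fin.ext ((hτ ⟨b, hb⟩).trans (hcb.symm.trans (hγ ⟨b, hb⟩).symm))
      have hfix' : ∀ a : Fin n, a.val ∈ b :: fixed → (γ⁻¹ * σ) a = a := fun a ha => by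
        rw [Equiv.Perm.mul_apply, Equiv.Perm.inv_eq_iff_eq]
        rcases List.mem_cons.1 ha with ha | ha
        · rw [show a = ⟨b, hb⟩ from Fin.ext ha]; exact hσb
        · rw [hfix a ha, hγfix a ha]
      have hcomm' : γ⁻¹ * σ * ζ = ζ * (γ⁻¹ * σ) := by
        rw [mul_assoc, hcomm, ← mul_assoc, ← mul_assoc]
        congr 1
        rw [inv_mul_eq_iff_eq_mul, ← mul_assoc, hγz, mul_inv_cancel_right]
      have hKrest : ∀ π ∈ G, (∀ a : Fin n, a.val ∈ b :: fixed → π a = a) → InProd rest π := by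
        intro π hπ hπfix
        obtain ⟨t', ht'', τ', hτ', ρ', hρ', hπeq⟩ :=
          hK π hπ fun a ha => hπfix a (List.mem_cons_of_mem _ ha)
        have hb' : app t' b = b := by
          have := congrArg (fun g : Equiv.Perm (Fin n) => (g ⟨b, hb⟩).val) hπeq
          simp only [Equiv.Perm.mul_apply, hρ'.fix hrest ⟨b, hb⟩ List.mem_cons_self,
            hπfix ⟨b, hb⟩ List.mem_cons_self] at this
          exact (hτ' ⟨b, hb⟩).symm.trans this.symm
        have hid : isId n t' = true := by simpa [hb'] using (hlev t' ht'').2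
        rw [hπeq, hτ'.eq_one hid, one_mul]
        exact hρ'
      refine ⟨c, hc, γ, hγ, γ⁻¹ * σ, ?_, (mul_inv_cancel_left γ σ).symm⟩
      exact exactOK_spec hz rest rest' (b :: fixed) hfx' hrest hrestC
        (fun c' hc' => hC c' (by rw [allReps, List.flatMap_cons]; exact List.mem_append_right _ hc'))
        hKrest hrec _ (G.mul_mem (G.inv_mem hγG) hσ) hfix' hcomm'
    · have := pruneOK_of_comm (A := 1) (acc := []) hz hz repW_nil hτ hb hfx hρfix
        (by rw [one_mul, ← hσeq]; exact hcomm)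
      rw [hpr] at this
      exact absurd this (by simp)
    · obtain ⟨w, hw, -⟩ := mem_searchW hz hz rest (b :: fixed) [t] (1 * τ) ρ hfx' hrest
        (repW_nil.snoc hτ) hρ (by rw [one_mul, ← hσeq]; exact hcomm)
      rw [hempty] at hw
      simp at hw

/-- The centraliser of `ζ` in `G` is the group of the certified chain. -/
theorem Chain.centralizer {G C : Subgroup (Equiv.Perm (Fin n))} {L LC : List Level} (S : Chain G L)
    {ζ : Equiv.Perm (Fin n)} {z : ℕ} (hz : Rep ζ z) (hCG : C ≤ G)
    (hCz : ∀ γ ∈ C, γ * ζ = ζ * γ) (hokC : levelsOK n [] LC = true)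
    (hrepC : ∀ c ∈ allReps LC, ∃ γ ∈ C, Rep γ c) (h : exactOK n z L LC [] = true) :
    Chain C LC ∧ ∀ σ ∈ G, σ * ζ = ζ * σ → σ ∈ C := by
  have key : ∀ σ ∈ G, σ * ζ = ζ * σ → InProd LC σ := fun σ hσ hc =>
    exactOK_spec hz L LC [] (by simp) S.ok hokC
      (fun c hc' => let ⟨γ, hγ, hr⟩ := hrepC c hc'; ⟨γ, hCG hγ, hr, hCz γ hγ⟩)
      (fun π hπ _ => S.all π hπ) h σ hσ (fun a ha => absurd ha (by simp)) hc
  exact ⟨⟨hokC, hrepC, fun σ hσ => key σ (hCG hσ) (hCz σ hσ)⟩,
    fun σ hσ hc => (key σ hσ hc).mem hrepC⟩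

/-! ### Non-membership -/

/-- A criterion for the packed `d` to be no product of representatives. -/
def notInOK (n : ℕ) : List Level → ℕ → Bool
  | [], d => !isId n d
  | (b, ts) :: rest, d =>
    if app d b == b then notInOK n rest d
    else if rest.isEmpty then ts.all (fun t => !sameP n t d)
    else ts.all (fun t => !(app t b == app d b))

theorem notInOK_spec {δ : Equiv.Perm (Fin n)} {d : ℕ} (hd : Rep δ d) :
    ∀ (L : List Level) (fixed : List ℕ), levelsOK n fixed L = true → notInOK n L d = true →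
      ¬ InProd L δ
  | [], _, _, h, hp => by
    rw [show δ = 1 from hp] at hd
    have : isId n d = true := by
      simp only [isId, List.all_eq_true, List.mem_range, beq_iff_eq]
      exact fun i hi => (hd ⟨i, hi⟩).symm
    simp [notInOK, this] at h
  | (b, ts) :: rest, fixed, hok, h, hp => by
    obtain ⟨t, ht, τ, hτ, ρ, hρ, heq⟩ := hp
    simp only [levelsOK, Bool.and_eq_true, decide_eq_true_eq, List.all_eq_true, beq_iff_eq] at hok
    obtain ⟨⟨⟨hb, -⟩, hlev⟩, hrest⟩ := hok
    have himg : app t b = app d b := by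
      have := congrArg (fun g : Equiv.Perm (Fin n) => (g ⟨b, hb⟩).val) heq
      simp only [Equiv.Perm.mul_apply, hρ.fix hrest ⟨b, hb⟩ List.mem_cons_self] at this
      exact (hτ ⟨b, hb⟩).symm.trans (this.symm.trans (hd ⟨b, hb⟩))
    by_cases hdb : app d b = b
    · have hid : isId n t = true := by simpa [himg, hdb] using (hlev t ht).2
      rw [hτ.eq_one hid, one_mul] at heq
      simp only [notInOK, hdb, beq_self_eq_true, if_true] at h
      exact notInOK_spec hd rest (b :: fixed) hrest h (heq ▸ hρ)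
    · simp only [notInOK, beq_iff_eq, hdb, if_false] at h
      cases rest with
      | nil =>
        simp only [List.isEmpty_nil, if_true, List.all_eq_true, Bool.not_eq_eq_eq_not,
          Bool.not_true] at h
        rw [show ρ = 1 from hρ, mul_one] at heq
        subst heq
        exact absurd (hτ.same hd) (by simp [h t ht])
      | cons q r =>
        simp only [List.isEmpty_cons, Bool.false_eq_true, if_false, List.all_eq_true,
          Bool.not_eq_eq_eq_not, Bool.not_true, beq_eq_false_iff_ne] at h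
        exact h t ht himg

end Cfsg.Agent.PermWide
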