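import Mathlib

/-!
Certificates for permutations of `Fin n`, `n ≤ 512`, packed with nine bits for each image: products,
straight-line programs, chains of representatives and the order of a generated group, small closed
lists.
-/

set_option autoImplicit false

namespace Cfsg.Agent.PermWide

/-- The image of `i` under the packed permutation `l`, on operations the kernel evaluates fast. -/
def app (l i : ℕ) : ℕ := Nat.land (Nat.shiftRight l (Nat.mul 9 i)) 511

variable {n : ℕ}

/-- `l` packs `σ`. -/
def Rep (σ : Equiv.Perm (Fin n)) (l : ℕ) : Prop := ∀ a : Fin n, (σ a).val = app l a.val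

theorem Rep.unique {σ τ : Equiv.Perm (Fin n)} {l : ℕ} (h : Rep σ l) (h' : Rep τ l) : σ = τ :=
  Equiv.ext fun a => Fin.ext ((h a).trans (h' a).symm)

theorem Rep.app_lt {σ : Equiv.Perm (Fin n)} {l i : ℕ} (h : Rep σ l) (hi : i < n) : app l i < n := by
  rw [← h ⟨i, hi⟩]; exact (σ _).isLt

/-- `l` packs the identity. -/
def isId (n l : ℕ) : Bool := (List.range n).all fun i => app l i == i

theorem Rep.eq_one {σ : Equiv.Perm (Fin n)} {l : ℕ} (h : Rep σ l) (hl : isId n l = true) : σ = 1 := by
  simp only [isId, List.all_eq_true, List.mem_range, beq_iff_eq] at hl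
  exact Equiv.ext fun a => Fin.ext ((h a).trans (hl _ a.isLt))

/-- `c` packs the product of `a` and `b`. -/
def compOK (n c a b : ℕ) : Bool := (List.range n).all fun i => app c i == app a (app b i)

theorem Rep.mul {σ τ : Equiv.Perm (Fin n)} {a b c : ℕ} (hσ : Rep σ a) (hτ : Rep τ b)
    (h : compOK n c a b = true) : Rep (σ * τ) c := by
  intro x
  simp only [compOK, List.all_eq_true, List.mem_range, beq_iff_eq] at h
  rw [Equiv.Perm.mul_apply, hσ, hτ, h _ x.isLt]

/-- The same images below `n`. -/
def sameP (n a b : ℕ) : Bool := (List.range n).all fun i => app a i == app b i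

theorem Rep.congr {σ : Equiv.Perm (Fin n)} {a b : ℕ} (ha : Rep σ a) (h : sameP n a b = true) :
    Rep σ b := by
  intro x
  simp only [sameP, List.all_eq_true, List.mem_range, beq_iff_eq] at h
  rw [ha x, h _ x.isLt]

theorem Rep.same {σ : Equiv.Perm (Fin n)} {a b : ℕ} (ha : Rep σ a) (hb : Rep σ b) :
    sameP n a b = true := by
  simp only [sameP, List.all_eq_true, List.mem_range, beq_iff_eq]
  intro i hi
  exact (ha ⟨i, hi⟩).symm.trans (hb ⟨i, hi⟩)

/-- A packed permutation of `0, …, n - 1`. -/
def permOK (n l : ℕ) : Bool :=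
  (List.range n).all (fun i => decide (app l i < n)) && decide ((List.range n).map (app l)).Nodup

theorem exists_rep {l : ℕ} (h : permOK n l = true) : ∃ σ : Equiv.Perm (Fin n), Rep σ l := by
  simp only [permOK, Bool.and_eq_true, List.all_eq_true, List.mem_range, decide_eq_true_eq] at h
  let f : Fin n → Fin n := fun a => ⟨app l a.val, h.1 _ a.isLt⟩
  have hf : Function.Injective f := fun a b hab => Fin.ext <| List.inj_on_of_nodup_map h.2
    (List.mem_range.2 a.isLt) (List.mem_range.2 b.isLt) (congrArg Fin.val hab)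
  exact ⟨Equiv.ofBijective f ((Finite.injective_iff_bijective).1 hf), fun _ => rfl⟩

/-! ### Straight-line programs -/

/-- A step `(c, i, j)` says that `c` is the product of the members `i` and `j` of the list of what is
known so far, newest first. -/
def slpOK (n : ℕ) : List ℕ → List (ℕ × ℕ × ℕ) → Bool
  | _, [] => true
  | known, (c, i, j) :: rest =>
    (match known[i]?, known[j]? with
      | some a, some b => compOK n c a b
      | _, _ => false) && slpOK n (c :: known) rest

theorem rep_of_slp {H : Subgroup (Equiv.Perm (Fin n))} :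
    ∀ (known : List ℕ) (steps : List (ℕ × ℕ × ℕ)),
      (∀ l ∈ known, ∃ σ ∈ H, Rep σ l) → slpOK n known steps = true →
      ∀ l, (l ∈ known ∨ l ∈ steps.map (fun s => s.1)) → ∃ σ ∈ H, Rep σ l := by
  intro known steps
  induction steps generalizing known with
  | nil => intro hk _ l hl; simpa using hk l (by simpa using hl)
  | cons s rest ih =>
    obtain ⟨c, i, j⟩ := s
    intro hk hok l hl
    simp only [slpOK, Bool.and_eq_true] at hok
    obtain ⟨h1, h2⟩ := hok
    have hc : ∀ x ∈ c :: known, ∃ σ ∈ H, Rep σ x := by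
      intro x hx
      rcases List.mem_cons.1 hx with rfl | hx
      · rcases hi : known[i]? with _ | a
        · rw [hi] at h1; simp at h1
        rcases hj : known[j]? with _ | b
        · rw [hi, hj] at h1; simp at h1
        rw [hi, hj] at h1
        obtain ⟨σ, hσH, hσ⟩ := hk a (List.mem_of_getElem? hi)
        obtain ⟨τ, hτH, hτ⟩ := hk b (List.mem_of_getElem? hj)
        exact ⟨σ * τ, H.mul_mem hσH hτH, hσ.mul hτ h1⟩
      · exact hk x hx
    refine ih (c :: known) hc h2 l ?_
    simp only [List.map_cons, List.mem_cons] at hl ⊢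
    tauto

/-- The group generated by packed generators. -/
def genGroup (n : ℕ) (gens : List ℕ) : Subgroup (Equiv.Perm (Fin n)) :=
  Subgroup.closure {σ | ∃ l ∈ gens, Rep σ l}

theorem genGroup_le {gens : List ℕ} {H : Subgroup (Equiv.Perm (Fin n))}
    (h : ∀ l ∈ gens, ∃ σ ∈ H, Rep σ l) : genGroup n gens ≤ H :=
  (Subgroup.closure_le _).2 fun σ ⟨l, hl, hσ⟩ => by
    obtain ⟨τ, hτ, hl'⟩ := h l hl
    rwa [hσ.unique hl']

/-- Everything listed comes from the generators. -/
def fromGens (n : ℕ) (gens : List ℕ) (steps : List (ℕ × ℕ × ℕ)) (ls : List ℕ) : Bool :=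
  gens.all (permOK n) && slpOK n gens steps &&
    ls.all fun t => (gens ++ steps.map fun s => s.1).any fun c => c == t

theorem reps_genGroup {gens : List ℕ} {steps : List (ℕ × ℕ × ℕ)} {ls : List ℕ}
    (h : fromGens n gens steps ls = true) :
    ∀ t ∈ ls, ∃ σ ∈ genGroup n gens, Rep σ t := by
  simp only [fromGens, Bool.and_eq_true, List.all_eq_true, List.any_eq_true, beq_iff_eq] at h
  obtain ⟨⟨hgen, hslp⟩, hsub⟩ := h
  intro t ht
  obtain ⟨c, hc, rfl⟩ := hsub t ht
  refine rep_of_slp gens steps (fun l hl => ?_) hslp c (List.mem_append.1 hc)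
  obtain ⟨σ, hσ⟩ := exists_rep (hgen l hl)
  exact ⟨σ, Subgroup.subset_closure ⟨l, hl, hσ⟩, hσ⟩

/-! ### Chains of representatives -/

/-- A level: base point and representatives. -/
abbrev Level : Type := ℕ × List ℕ

/-- All representatives. -/
def allReps (L : List Level) : List ℕ := L.flatMap fun p => p.2

/-- The number of products of representatives. -/
def size (L : List Level) : ℕ := (L.map fun p => p.2.length).prod

/-- Representatives fix the earlier base points, move the base point to different points, and only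
the identity fixes it. -/
def levelsOK (n : ℕ) : List ℕ → List Level → Bool
  | _, [] => true
  | fixed, (b, ts) :: rest =>
    decide (b < n) && decide (ts.map fun t => app t b).Nodup &&
      ts.all (fun t => (fixed.all fun i => app t i == i) && (!(app t b == b) || isId n t)) &&
      levelsOK n (b :: fixed) rest

/-- The permutations that are products of representatives, one from each level. -/
def InProd : List Level → Equiv.Perm (Fin n) → Prop
  | [], σ => σ = 1
  | (_, ts) :: rest, σ => ∃ t ∈ ts, ∃ τ, Rep τ t ∧ ∃ ρ, InProd rest ρ ∧ σ = τ * ρ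

theorem InProd.fix : ∀ {L : List Level} {fixed : List ℕ} {σ : Equiv.Perm (Fin n)},
    InProd L σ → levelsOK n fixed L = true → ∀ a : Fin n, a.val ∈ fixed → σ a = a
  | [], _, σ, h, _, a, _ => by rw [show σ = 1 from h]; rfl
  | (b, ts) :: rest, fixed, σ, h, hok, a, ha => by
    obtain ⟨t, ht, τ, hτ, ρ, hρ, rfl⟩ := h
    simp only [levelsOK, Bool.and_eq_true, List.all_eq_true, beq_iff_eq] at hok
    rw [Equiv.Perm.mul_apply, hρ.fix hok.2 a (List.mem_cons_of_mem _ ha)]
    exact Fin.ext ((hτ a).trans ((hok.1.2 t ht).1 _ ha))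

theorem InProd.mem {G : Subgroup (Equiv.Perm (Fin n))} :
    ∀ {L : List Level} {σ : Equiv.Perm (Fin n)},
    InProd L σ → (∀ t ∈ allReps L, ∃ τ ∈ G, Rep τ t) → σ ∈ G
  | [], σ, h, _ => by rw [show σ = 1 from h]; exact G.one_mem
  | (b, ts) :: rest, σ, h, hrep => by
    obtain ⟨t, ht, τ, hτ, ρ, hρ, rfl⟩ := h
    obtain ⟨τ', hτ', ht'⟩ := hrep t (List.mem_flatMap.2 ⟨(b, ts), List.mem_cons_self, ht⟩)
    exact G.mul_mem (hτ.unique ht' ▸ hτ')
      (hρ.mem fun s hs => hrep s (by rw [allReps, List.flatMap_cons]; exact List.mem_append_right _ hs))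

theorem card_inProd : ∀ (L : List Level) (fixed : List ℕ), levelsOK n fixed L = true →
    (∀ t ∈ allReps L, ∃ τ : Equiv.Perm (Fin n), Rep τ t) →
    Nat.card {σ : Equiv.Perm (Fin n) // InProd L σ} = size L
  | [], _, _, _ => by
    have : Unique {σ : Equiv.Perm (Fin n) // InProd ([] : List Level) σ} :=
      { default := ⟨1, rfl⟩
        uniq := fun σ => Subtype.ext σ.2 }
    simp [size]
  | (b, ts) :: rest, fixed, hok, hrep => by
    have hok' := hok
    simp only [levelsOK, Bool.and_eq_true, decide_eq_true_eq] at hok'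
    obtain ⟨⟨⟨hb, hnd⟩, -⟩, hrest⟩ := hok'
    have ih := card_inProd rest (b :: fixed) hrest fun t ht =>
      hrep t (by rw [allReps, List.flatMap_cons]; exact List.mem_append_right _ ht)
    have hrep' : ∀ i : Fin ts.length, ∃ τ : Equiv.Perm (Fin n), Rep τ (ts[i.val]) := fun i =>
      hrep _ (List.mem_flatMap.2 ⟨(b, ts), List.mem_cons_self, List.getElem_mem _⟩)
    choose f hf using hrep'
    let F : Fin ts.length × {ρ : Equiv.Perm (Fin n) // InProd rest ρ} →
        {σ : Equiv.Perm (Fin n) // InProd ((b, ts) :: rest) σ} := fun p =>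
      ⟨f p.1 * p.2.1, _, List.getElem_mem _, f p.1, hf p.1, p.2.1, p.2.2, rfl⟩
    have hF : Function.Bijective F := by
      constructor
      · rintro ⟨i, ρ, hρ⟩ ⟨i', ρ', hρ'⟩ h
        have h' : f i * ρ = f i' * ρ' := congrArg Subtype.val h
        have himg := congrArg (fun g : Equiv.Perm (Fin n) => (g ⟨b, hb⟩).val) h'
        simp only [Equiv.Perm.mul_apply, hρ.fix hrest ⟨b, hb⟩ List.mem_cons_self,
          hρ'.fix hrest ⟨b, hb⟩ List.mem_cons_self] at himg
        rw [hf i, hf i'] at himg
        have hii : i = i' := Fin.ext <| by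
          have h1 := (List.Nodup.getElem_inj_iff hnd (i := i.val) (j := i'.val)
            (hi := by simp) (hj := by simp)).1 (by simpa using himg)
          exact h1
        subst hii
        simp [mul_left_cancel h']
      · rintro ⟨σ, t, ht, τ, hτ, ρ, hρ, rfl⟩
        obtain ⟨i, hi, rfl⟩ := List.getElem_of_mem ht
        exact ⟨(⟨i, hi⟩, ⟨ρ, hρ⟩),
          Subtype.ext (congrArg (· * ρ) (hτ.unique (hf ⟨i, hi⟩)).symm)⟩
    rw [← Nat.card_eq_of_bijective F hF, Nat.card_prod, ih, Nat.card_fin]
    simp [size]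

theorem size_le_card {G : Subgroup (Equiv.Perm (Fin n))} {L : List Level}
    (hok : levelsOK n [] L = true) (hrep : ∀ t ∈ allReps L, ∃ τ ∈ G, Rep τ t) :
    size L ≤ Nat.card G := by
  rw [← card_inProd L [] hok fun t ht => (hrep t ht).imp fun _ h => h.2]
  exact Nat.card_le_card_of_injective (fun σ => (⟨σ.1, σ.2.mem hrep⟩ : G))
    fun σ τ h => Subtype.ext (congrArg (fun g : G => g.1) h)

/-- A checked chain: the elements are exactly the products of representatives. -/
structure Chain (G : Subgroup (Equiv.Perm (Fin n))) (L : List Level) : Prop where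
  ok : levelsOK n [] L = true
  reps : ∀ t ∈ allReps L, ∃ τ ∈ G, Rep τ t
  all : ∀ σ ∈ G, InProd L σ

theorem Chain.of_card_le {G : Subgroup (Equiv.Perm (Fin n))} {L : List Level}
    (hok : levelsOK n [] L = true) (hrep : ∀ t ∈ allReps L, ∃ τ ∈ G, Rep τ t)
    (hcard : Nat.card G ≤ size L) : Chain G L := by
  refine ⟨hok, hrep, fun σ hσ => ?_⟩
  let F : {σ : Equiv.Perm (Fin n) // InProd L σ} → G := fun σ => ⟨σ.1, σ.2.mem hrep⟩
  have hinj : Function.Injective F := fun σ τ h => Subtype.ext (congrArg (fun g : G => g.1) h)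
  have hsur := ((Nat.bijective_iff_injective_and_card F).2 ⟨hinj, le_antisymm
    (Nat.card_le_card_of_injective F hinj)
    (by rwa [card_inProd L [] hok fun t ht => (hrep t ht).imp fun _ h => h.2])⟩).2
  obtain ⟨τ, hτ⟩ := hsur ⟨σ, hσ⟩
  have h : τ.1 = σ := congrArg (fun g : G => g.1) hτ
  exact h ▸ τ.2

theorem Chain.card {G : Subgroup (Equiv.Perm (Fin n))} {L : List Level} (h : Chain G L) :
    Nat.card G = size L := by
  rw [← card_inProd L [] h.ok fun t ht => (h.reps t ht).imp fun _ h' => h'.2]
  exact Nat.card_congr ⟨fun σ => ⟨σ.1, h.all σ.1 σ.2⟩, fun σ => ⟨σ.1, σ.2.mem h.reps⟩,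
    fun _ => rfl, fun _ => rfl⟩

/-! ### Small groups -/

/-- `E` contains the identity and is closed under multiplication by the generators on the right. -/
def closedE (n : ℕ) (gens E : List ℕ) : Bool :=
  E.any (isId n) && E.all fun a => gens.all fun g => E.any fun c => compOK n c a g

theorem genGroup_mem_list {gens E : List ℕ} (h : closedE n gens E = true) :
    ∀ σ ∈ genGroup n gens, ∃ l ∈ E, Rep σ l := by
  simp only [closedE, Bool.and_eq_true, List.all_eq_true, List.any_eq_true] at h
  obtain ⟨⟨e₀, he₀, hid⟩, hcl⟩ := h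
  suffices hstep : ∀ σ ∈ genGroup n gens, ∀ x : Equiv.Perm (Fin n),
      (∃ l ∈ E, Rep x l) → ∃ l ∈ E, Rep (x * σ) l by
    intro σ hσ
    have h1 : Rep (1 : Equiv.Perm (Fin n)) e₀ := fun a => by
      simp only [isId, List.all_eq_true, List.mem_range, beq_iff_eq] at hid
      exact (hid _ a.isLt).symm
    simpa using hstep σ hσ 1 ⟨e₀, he₀, h1⟩
  intro σ hσ
  rw [← Subgroup.mem_toSubmonoid, genGroup, Subgroup.closure_toSubmonoid_of_finite] at hσ
  induction hσ using Submonoid.closure_induction with
  | mem g hg =>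
    obtain ⟨l, hl, hgl⟩ := hg
    rintro x ⟨a, ha, hxa⟩
    obtain ⟨c, hc, hcomp⟩ := hcl a ha l hl
    exact ⟨c, hc, hxa.mul hgl hcomp⟩
  | one => intro x hx; rwa [mul_one]
  | mul a b _ _ iha ihb => intro x hx; rw [← mul_assoc]; exact ihb _ (iha x hx)

theorem card_genGroup_le {gens E : List ℕ} (h : closedE n gens E = true) :
    Nat.card (genGroup n gens) ≤ E.length := by
  have key : ∀ σ : genGroup n gens, ∃ i : Fin E.length, Rep (σ : Equiv.Perm (Fin n)) E[i.val] :=
    fun σ => by
      obtain ⟨l, hl, hr⟩ := genGroup_mem_list h σ.1 σ.2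
      obtain ⟨i, hi, rfl⟩ := List.getElem_of_mem hl
      exact ⟨⟨i, hi⟩, hr⟩
  choose f hf using key
  exact (Nat.card_le_card_of_injective f fun σ τ hστ =>
    Subtype.ext ((hf σ).unique (hστ ▸ hf τ))).trans_eq (Nat.card_fin _)

end Cfsg.Agent.PermWide
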